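import Groth.Agent.EquidimLib.Subvariety
import Groth.Agent.UOpenLib.Generization
import Groth.Agent.UOpenLib.Normal

/-! Components which are equidimensional at a given point. -/

set_option autoImplicit false
set_option linter.style.haveILetI false

universe u

open CategoryTheory Limits AlgebraicGeometry TopologicalSpace Topology

namespace Groth.Agent.EquidimCompLib

open UOpenLib EquidimLib

variable {X S : Scheme.{u}} (f : X ⟶ S)

/-- Closures in fibres in a closed subscheme. -/
theorem fibreClosureDim_closedImmersion [LocallyOfFiniteType f] {Z : Scheme.{u}} (j : Z ⟶ X)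
    [IsClosedImmersion j] (z : Z) : fibreClosureDim (j ≫ f) z = fibreClosureDim f (j.base z) := by
  rw [fibreClosureDim_eq_inter, fibreClosureDim_eq_inter]
  refine IsHomeomorph.topologicalKrullDim_eq _ ((j.isEmbedding.homeomorphImage _).trans
    (Homeomorph.setCongr ?_)).isHomeomorph
  rw [show (j ≫ f).base ⁻¹' {(j ≫ f).base z} = j.base ⁻¹' (f.base ⁻¹' {f.base (j.base z)}) from rfl,
    Set.image_inter_preimage, ← j.isClosedEmbedding.closure_image_eq, Set.image_singleton]

/-- The component of a maximal point with large generic fibre is equidimensional where the fibres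
are no larger. -/
theorem exists_component [LocallyOfFiniteType f] (x : X) (e : ℕ) (U : X.Opens) (hxU : x ∈ U)
    (hle : ∀ z ∈ U, fibreClosureDim f z ≤ e) (ζ : X)
    (hζ : closure {ζ} ∈ irreducibleComponents (X : Type u)) (hζx : ζ ⤳ x)
    (hfζ : closure {f.base ζ} ∈ irreducibleComponents (S : Type u))
    (hge : (e : WithBot ℕ∞) ≤ fibreClosureDim f ζ) :
    ∃ W : TopologicalSpace.Closeds X, (W : Set X) ∈ irreducibleComponents (X : Type u) ∧
      ∃ w : ↥((Scheme.IdealSheafData.vanishingIdeal W).subscheme),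
        (Scheme.IdealSheafData.vanishingIdeal W).subschemeι.base w = x ∧
        EGA43.IsEquidimAt ((Scheme.IdealSheafData.vanishingIdeal W).subschemeι ≫ f) w := by
  let W : TopologicalSpace.Closeds X := ⟨closure {ζ}, isClosed_closure⟩
  let j := (Scheme.IdealSheafData.vanishingIdeal W).subschemeι
  have hrange : Set.range j.base = closure {ζ} := by
    show Set.range (Scheme.IdealSheafData.vanishingIdeal W).subschemeι.base = _
    rw [Scheme.IdealSheafData.range_subschemeι, Scheme.IdealSheafData.coe_support_vanishingIdeal]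
    rfl
  obtain ⟨w, hw⟩ : x ∈ Set.range j.base := hrange ▸ hζx.mem_closure
  obtain ⟨η, hη⟩ : ζ ∈ Set.range j.base := hrange ▸ subset_closure rfl
  refine ⟨W, hζ, w, hw, (isEquidimAt_iff (j ≫ f) w).mpr ⟨e, j ⁻¹ᵁ U, ?_, ?_, ?_⟩⟩
  · show j.base w ∈ U
    rw [hw]; exact hxU
  · intro v _ hv
    have hηv : η ⤳ v := j.isEmbedding.isInducing.specializes_iff.mp (specializes_iff_mem_closure.mpr
      (by rw [hη, ← hrange]; exact Set.mem_range_self v))
    obtain rfl := FibDimLib.eq_of_specializes_of_closure_mem hv hηv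
    refine ⟨?_, ?_⟩
    · show closure {f.base (j.base η)} ∈ _
      rw [hη]; exact hfζ
    · show f.base (j.base η) ⤳ f.base (j.base w)
      rw [hη, hw]
      exact hζx.map f.continuous
  · intro v hvU hv
    refine le_antisymm ?_ ?_
    · rw [fibreClosureDim_closedImmersion]
      exact hle _ hvU
    · have hηv : η ⤳ v := j.isEmbedding.isInducing.specializes_iff.mp (specializes_iff_mem_closure.mpr
        (by rw [hη, ← hrange]; exact Set.mem_range_self v))
      rw [← fibreDimAt_eq_of_max (j ≫ f) hv]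
      refine le_trans ?_ (fibreClosureDim_le_fibreDimAt (j ≫ f) hηv)
      rw [fibreClosureDim_closedImmersion, hη]
      exact hge

theorem exists_component_of_universallyOpen [LocallyOfFiniteType f] [UniversallyOpen f] (x : X) :
    ∃ W : TopologicalSpace.Closeds X, (W : Set X) ∈ irreducibleComponents (X : Type u) ∧
      ∃ w : ↥((Scheme.IdealSheafData.vanishingIdeal W).subscheme),
        (Scheme.IdealSheafData.vanishingIdeal W).subschemeι.base w = x ∧
        EGA43.IsEquidimAt ((Scheme.IdealSheafData.vanishingIdeal W).subschemeι ≫ f) w := by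
  obtain ⟨d, hd⟩ := exists_fibreDimAt_eq_nat f x
  obtain ⟨U, hxU, hle⟩ := exists_nhd_fibreClosureDim_le f x hd
  obtain ⟨x₀, -, hx₀x, hmax, hx₀d⟩ := exists_max_fibreDimAt f x
  obtain ⟨y₁, hy₁, hy₁x⟩ := DvrDomLib.exists_generic_specializes (f.base x₀)
  obtain ⟨ζ, hζx₀, hfζ, hdim⟩ :=
    exists_generization_of_isUnivOpenAt f hmax (isUnivOpenAt_of_universallyOpen' f x₀) hy₁x
  obtain ⟨ζ₀, hζ₀, hζ₀ζ⟩ := DvrDomLib.exists_generic_specializes ζ
  have hfζ₀ : f.base ζ₀ = f.base ζ :=
    FibDimLib.eq_of_specializes_of_closure_mem (hfζ.symm ▸ hy₁) (hζ₀ζ.map f.continuous)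
  refine exists_component f x d U hxU hle ζ₀ hζ₀ ((hζ₀ζ.trans hζx₀).trans hx₀x)
    (by rw [hfζ₀, hfζ]; exact hy₁) ?_
  rw [← hd, ← hx₀d, ← fibreDimAt_eq_of_max f hmax]
  exact hdim.trans (fibreClosureDim_mono f hζ₀ζ hfζ₀)

theorem exists_component_of_equidim [LocallyOfFiniteType f] (x : X) (h : EGA43.IsEquidimAt f x) :
    ∃ W : TopologicalSpace.Closeds X, (W : Set X) ∈ irreducibleComponents (X : Type u) ∧
      ∃ w : ↥((Scheme.IdealSheafData.vanishingIdeal W).subscheme),
        (Scheme.IdealSheafData.vanishingIdeal W).subschemeι.base w = x ∧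
        EGA43.IsEquidimAt ((Scheme.IdealSheafData.vanishingIdeal W).subschemeι ≫ f) w := by
  obtain ⟨e, U, hU⟩ := (isEquidimAt_iff f x).mp h
  obtain ⟨ζ, hζ, hζx⟩ := DvrDomLib.exists_generic_specializes x
  have hζU := hζx.mem_open U.isOpen hU.mem
  refine exists_component f x e U hU.mem (fun z hz => ?_) ζ hζ hζx (hU.max ζ hζU hζ).1
    (hU.dim ζ hζU (isFibreMax_of_max f hζ)).ge
  exact (fibreClosureDim_le_fibreDimAt f (specializes_refl z)).trans (hU.fibreDimAt_eq f hz).le

end Groth.Agent.EquidimCompLib
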